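import Groth.Agent.Fano.K470.CurDef
import Groth.Agent.Fano.K714.Codim2

/-!
# The cone over a smooth cubic threefold (NODE CONE of `K470.PlanLine`)

* `irr_X0`, `dimGE_X0`, `dimLE_X0`: `X0 T` is irreducible of dimension four.
* `exists_off_cone`: for `y ≠ 0`, the general point of `X0 T` is not joined to `y` by a line of the threefold.
-/

set_option autoImplicit false

universe u

namespace K424.X0

open LefPen Groth.Agent.Lefpen.H703.ZOpen Module K714.Irr K714.Frames K470.Cur K656.Trilin K714.Surf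

variable {k : Type u} [Field k] [IsAlgClosed k] [CharZero k]
variable {T : (Fin 5 → k) →ₗ[k] (Fin 5 → k) →ₗ[k] (Fin 5 → k) →ₗ[k] k}

theorem irr_X0 (hT : IsSym3 T) (hsm : SmoothOn T ⊤) : Irr k (X0 T) :=
  K714.ConicIrr.hyp_irr hT hsm

omit [IsAlgClosed k] in
/-- the cubic form is not identically zero -/
theorem exists_cube_ne_zero (hT : IsSym3 T) (hsm : SmoothOn T ⊤) : ∃ u : Fin 5 → k, T u u u ≠ 0 := by
  by_contra hcon
  push Not at hcon
  have h0 : (Pi.single 0 1 : Fin 5 → k) ≠ 0 := by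
    intro h
    have := congrFun h 0
    simp at this
  obtain ⟨w, -, hw⟩ := hsm _ trivial h0 (hcon _)
  apply hw
  have h1 := hT.polar (Pi.single 0 1 : Fin 5 → k) (Pi.single 0 1) w
  simp only [hcon] at h1
  have h6 : (6 : k) ≠ 0 := by norm_num
  refine (mul_eq_zero.mp ?_).resolve_left h6
  rw [h1]
  ring

omit [CharZero k] in
/-- a cubic equation with nonzero leading coefficient has a root -/
theorem exists_cubic_root {a b c d : k} (ha : a ≠ 0) : ∃ s : k, a * s ^ 3 + b * s ^ 2 + c * s + d = 0 := by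
  obtain ⟨s, hs⟩ := IsAlgClosed.exists_root
    (Polynomial.C a * Polynomial.X ^ 3 + Polynomial.C b * Polynomial.X ^ 2 + Polynomial.C c * Polynomial.X +
      Polynomial.C d) (by rw [Polynomial.degree_cubic ha]; norm_num)
  refine ⟨s, ?_⟩
  simpa only [Polynomial.IsRoot, Polynomial.eval_add, Polynomial.eval_mul, Polynomial.eval_C,
    Polynomial.eval_pow, Polynomial.eval_X] using hs

omit [CharZero k] in
/-- a quadratic equation with nonzero leading coefficient has a root -/
theorem exists_quad_root {a b c : k} (ha : a ≠ 0) : ∃ s : k, a * s ^ 2 + b * s + c = 0 := by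
  obtain ⟨s, hs⟩ := IsAlgClosed.exists_root
    (Polynomial.C a * Polynomial.X ^ 2 + Polynomial.C b * Polynomial.X + Polynomial.C c)
    (by rw [Polynomial.degree_quadratic ha]; norm_num)
  refine ⟨s, ?_⟩
  simpa only [Polynomial.IsRoot, Polynomial.eval_add, Polynomial.eval_mul, Polynomial.eval_C,
    Polynomial.eval_pow, Polynomial.eval_X] using hs

/-- every point is a point of the cone plus a multiple of `u`, if `u` is not on the cone -/
theorem exists_add_smul (hT : IsSym3 T) {u : Fin 5 → k} (hu : T u u u ≠ 0) (v : Fin 5 → k) :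
    ∃ s : k, v + s • u ∈ X0 T := by
  obtain ⟨s, hs⟩ := exists_cubic_root (a := T u u u) (b := 3 * T v u u) (c := 3 * T v v u) (d := T v v v) hu
  refine ⟨s, ?_⟩
  change T (v + s • u) (v + s • u) (v + s • u) = 0
  rw [hT.cube_add_smul, ← hs]
  ring

theorem dimGE_X0 (hT : IsSym3 T) (hsm : SmoothOn T ⊤) : DimGE k (X0 T) 4 := by
  obtain ⟨u, hu⟩ := exists_cube_ne_zero hT hsm
  have hu0 : u ≠ 0 := by
    rintro rfl
    simp at hu
  obtain ⟨q, hq⟩ := (Submodule.span k {u}).exists_isCompl
  have h1 : finrank k ↥q = 4 := by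
    have h2 := Submodule.finrank_add_eq_of_isCompl hq
    rw [finrank_span_singleton hu0, finrank_fin_fun] at h2
    omega
  let e : ↥q ≃ₗ[k] (Fin 4 → k) := LinearEquiv.ofFinrankEq _ _ (by rw [h1, finrank_fin_fun])
  let pr : (Fin 5 → k) →ₗ[k] ↥q := q.projectionOnto _ hq.symm
  refine ⟨(e.toLinearMap.comp pr : (Fin 5 → k) →ₗ[k] (Fin 4 → k)), isPolyMap_linear _, ?_⟩
  rintro O - ⟨w, hw⟩
  obtain ⟨s, hs⟩ := exists_add_smul hT hu ((e.symm w : ↥q) : Fin 5 → k)
  refine ⟨_, hs, ?_⟩
  have h2 : pr (((e.symm w : ↥q) : Fin 5 → k) + s • u) = e.symm w := by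
    rw [map_add, map_smul]
    have h3 : pr u = 0 := by
      have := Submodule.projectionOnto_apply_right hq.symm ⟨u, Submodule.mem_span_singleton_self u⟩
      exact this
    have h4 : pr ((e.symm w : ↥q) : Fin 5 → k) = e.symm w := Submodule.projectionOnto_apply_left hq.symm _
    rw [h3, h4, smul_zero, add_zero]
  rw [LinearMap.comp_apply, h2]
  simpa using hw

omit [CharZero k] [IsAlgClosed k] in
theorem isPolyFun_cube : IsPolyFun k (fun v : Fin 5 → k => T v v v) := by
  have h : (fun v : Fin 5 → k => T v v v) = fun v => ∑ i, ∑ j, ∑ l,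
      T (Pi.single i 1) (Pi.single j 1) (Pi.single l 1) * (v i * v j * v l) := by
    funext v
    exact K714.Frames.T_expand T v v v
  rw [h]
  have hp : ∀ i, IsPolyFun k (fun v : Fin 5 → k => v i) := fun i =>
    isPolyFun_linear (LinearMap.proj i : (Fin 5 → k) →ₗ[k] k)
  exact pf_sum _ fun i _ => pf_sum _ fun j _ => pf_sum _ fun l _ =>
    pf_const_mul _ (pf_mul (pf_mul (hp i) (hp j)) (hp l))

omit [CharZero k] in
/-- proper closed subsets have codimension at least one -/
theorem codimGE_one {V : Type u} [AddCommGroup V] [Module k V] [FiniteDimensional k V] {D : Set V} {f : V → k}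
    (hf : IsPolyFun k f) (hD : ∀ v ∈ D, f v = 0) {v₀ : V} (hv : f v₀ ≠ 0) : CodimGE k D 1 := by
  have : Infinite k := IsAlgClosed.instInfinite
  let b := Module.finBasis k V
  rw [K714.Codim.codimGE_iff b, K714.Codim.le_height_iff]
  intro P hP hle
  obtain ⟨F, hF⟩ := K714.Codim.exists_mvPoly b hf
  have hFP : F ∈ P := by
    apply hle
    rintro _ ⟨v, hv, rfl⟩
    rw [MvPolynomial.aeval_eq_eval]
    exact (hF v).symm.trans (hD v hv)
  have hF0 : F ≠ 0 := by
    rintro rfl
    rw [hF, map_zero] at hv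
    exact hv rfl
  have h1 : P.height ≠ 0 := by
    rw [Ne, Ideal.height_eq_zero_iff, IsDomain.minimalPrimes_eq_singleton_bot, Set.mem_singleton_iff]
    rintro rfl
    exact hF0 (by simpa using hFP)
  exact_mod_cast Order.one_le_iff_ne_zero.mpr h1

theorem dimLE_X0 (hT : IsSym3 T) (hsm : SmoothOn T ⊤) : DimLE k (X0 T) 4 := by
  rintro ⟨φ, hφ, h⟩
  obtain ⟨u, hu⟩ := exists_cube_ne_zero hT hsm
  have hc : CodimGE k (X0 T) 1 := codimGE_one (isPolyFun_cube (T := T)) (fun v hv => hv) hu
  have hm : IsPolyMap k (fun p : PUnit.{u + 1} × (Fin 5 → k) => φ p.2) := pm_comp hφ isPolyMap_snd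
  obtain ⟨f, hf, ⟨v, hv⟩, hf0⟩ := K714.Codim2.exists_polyFun_vanishing (U := PUnit.{u + 1}) hc hm (by
    have h1 : finrank k PUnit.{u + 1} = 0 := Module.finrank_zero_of_subsingleton
    have h2 : finrank k (Fin 5 → k) = 5 := finrank_fin_fun k
    have h3 : finrank k (Fin (4 + 1) → k) = 5 := finrank_fin_fun k
    omega)
  obtain ⟨s, hs, hsO⟩ := h {v | f v ≠ 0} (isZOpen_basic hf) ⟨v, hv⟩
  exact hsO (hf0 PUnit.unit s hs)

/-- there are nonzero points on the cone -/
theorem exists_ne_zero_X0 (hT : IsSym3 T) : ∃ x : Fin 5 → k, x ≠ 0 ∧ T x x x = 0 := by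
  have h01 : (Pi.single 0 1 : Fin 5 → k) ≠ 0 := by
    intro h
    have := congrFun h 0
    simp at this
  by_cases h : T (Pi.single 0 1 : Fin 5 → k) (Pi.single 0 1) (Pi.single 0 1) = 0
  · exact ⟨_, h01, h⟩
  · obtain ⟨s, hs⟩ := exists_add_smul hT h (Pi.single 1 1 : Fin 5 → k)
    refine ⟨_, ?_, hs⟩
    intro h0
    have := congrFun h0 1
    simp at this

/-- general points are not joined to `y` by a line of the threefold, and general pairs are not -/
theorem exists_off_cone (hT : IsSym3 T) (hsm : SmoothOn T ⊤) {y : Fin 5 → k} (hy : y ≠ 0) :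
    ∃ O : Set (Fin 5 → k), IsZOpen k O ∧ (X0 T ∩ O).Nonempty ∧ ∀ x ∈ O, T x x x = 0 →
      x ∉ Submodule.span k {y} ∧ (x, y) ∉ FR T := by
  by_cases hyy : T y y y = 0
  · obtain ⟨z, -, hz⟩ := hsm y trivial hy hyy
    have h3 : (3 : k) * T y y z ≠ 0 := mul_ne_zero (by norm_num) hz
    obtain ⟨s, hs⟩ := exists_quad_root (b := 3 * T y z z) (c := T z z z) h3
    refine ⟨{x | T y y x ≠ 0}, isZOpen_basic (isPolyFun_linear' (T y y)), ⟨s • y + z, ?_, ?_⟩, ?_⟩
    · change T (s • y + z) (s • y + z) (s • y + z) = 0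
      have h4 := hT.cube_smul_add_smul y z s 1
      rw [one_smul] at h4
      rw [h4, hyy]
      linear_combination hs
    · change T y y (s • y + z) ≠ 0
      rw [map_add, map_smul, hyy, smul_zero, zero_add]
      exact hz
    · intro x hx _
      have hx' : T y y x ≠ 0 := hx
      constructor
      · intro hmem
        obtain ⟨c, rfl⟩ := Submodule.mem_span_singleton.mp hmem
        apply hx'
        rw [map_smul, hyy, smul_zero]
      · rintro ⟨-, -, -, h5, -⟩
        apply hx'
        rw [← hT.rot x y y]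
        exact h5
  · obtain ⟨x, hx0, hx⟩ := exists_ne_zero_X0 hT
    refine ⟨{x | x ≠ 0}, Groth.Agent.Lefpen.H703.Elim.isZOpen_ne_zero, ⟨x, hx, hx0⟩, ?_⟩
    intro x hx0 hx
    constructor
    · intro hmem
      obtain ⟨c, rfl⟩ := Submodule.mem_span_singleton.mp hmem
      have hc : c ≠ 0 := fun h => hx0 (by rw [h, zero_smul])
      simp only [map_smul, LinearMap.smul_apply, smul_eq_mul] at hx
      exact (mul_ne_zero hc (mul_ne_zero hc (mul_ne_zero hc hyy))) hx
    · rintro ⟨-, -, -, -, h5⟩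
      exact hyy h5

end K424.X0
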